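import Groth.Agent.GrpschAbsch.H0General
import Groth.Agent.CMMor.SmoothFibre
import Groth.Agent.EtaleAlgebra.CurveLevel
import Groth.Agent.Pic13Aux.CurveThrough
import Groth.Agent.Variety2.DimAffine
import Groth.Agent.S5934
import Groth.Agent.S10862

/-!
Spreading out a smoothing over a complete trait to a smoothing over a curve.
-/

set_option autoImplicit false
set_option backward.isDefEq.respectTransparency false
set_option linter.style.longLine false
set_option linter.style.haveILetI false

universe u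

open CategoryTheory CategoryTheory.Limits AlgebraicGeometry

namespace Groth.Smoothing16186

open Groth.SpectralTopology Groth.GrpschAbsch.H0General in
/-- A proper flat model at a finite stage. -/
theorem exists_stage {AA : CommRingCat.{u}} {P : Scheme.{u}} (p : P ⟶ Spec AA) [IsProper p] [Flat p]
    [LocallyOfFinitePresentation p] :
    ∃ (l : (FGSub AA)ᵒᵖ) (N : StageModel (c := fgCone AA) (X := P) p l), IsProper N.hom ∧ Flat N.hom := by
  let c := fgCone AA
  have hc := isLimitFgCone AA
  let f' : P ⟶ c.pt := p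
  have : IsProper f' := ‹_›
  have : Flat f' := ‹_›
  have : LocallyOfFinitePresentation f' := ‹_›
  obtain ⟨i, ⟨M⟩⟩ := exists_stageModel hc f'
  have hsnd : M.sq.isoPullback.inv ≫ f' = pullback.snd M.hom (c.π.app i) := M.sq.isoPullback_inv_snd
  obtain ⟨j, φ, hj⟩ := baseSpreads_isProper (fgSchemes AA) c hc M.hom (by
    rw [← hsnd]; infer_instance)
  have := QuasiCompact.compactSpace_of_compactSpace M.hom
  obtain ⟨k', χ, hk⟩ := exists_flat_fgStage (X₀ := M.obj) M.hom (by rw [← hsnd]; infer_instance)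
  obtain ⟨l, α, β, hαβ⟩ : ∃ (l : (FGSub AA)ᵒᵖ) (α : l ⟶ j) (β : l ⟶ k'), α ≫ φ = β ≫ χ :=
    ⟨IsCofiltered.min j k', IsCofiltered.minToLeft j k', IsCofiltered.minToRight j k',
      Subsingleton.elim _ _⟩
  let N := M.pull (α ≫ φ)
  have hN1 : IsProper N.hom := by
    refine isProper_pullback_fst M.hom _ ?_
    rw [Functor.map_comp, ← pullbackLeftPullbackSndIso_inv_snd_snd M.hom ((fgSchemes AA).map φ) ((fgSchemes AA).map α)]
    have : IsProper (pullback.snd M.hom ((fgSchemes AA).map φ)) := hj
    infer_instance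
  have hN2 : Flat N.hom := by
    refine (flat_pullback_fst_iff M.hom _).mpr ?_
    rw [hαβ, Functor.map_comp]
    have : Flat (pullback.snd M.hom ((fgSchemes AA).map χ)) := hk
    exact Groth.GrpschAbsch.FlatStage.flat_snd_of_comp _ _ _
  exact ⟨l, N, hN1, hN2⟩

open Groth.SpectralTopology Groth.GrpschAbsch.H0General in
/-- A proper flat scheme over an algebra over a ring comes from one over a finitely generated subalgebra containing a
given element. -/
theorem exists_model_adjoin (k : Type u) [CommRing k] {A : Type u} [CommRing A] [Algebra k A] {P : Scheme.{u}}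
    (p : P ⟶ Spec (CommRingCat.of A)) [IsProper p] [Flat p] [LocallyOfFinitePresentation p] (a : A) :
    ∃ (R : Subalgebra k A), R.FG ∧ a ∈ R ∧
      ∃ (P₁ : Scheme.{u}) (p₁ : P₁ ⟶ Spec (CommRingCat.of R)) (q : P ⟶ P₁),
        IsProper p₁ ∧ Flat p₁ ∧ LocallyOfFinitePresentation p₁ ∧
          IsPullback q p p₁ (Spec.map (CommRingCat.ofHom R.val.toRingHom)) := by
  classical
  obtain ⟨l, N, hN1, hN2⟩ := exists_stage p
  let c := fgCone (CommRingCat.of A)
  obtain ⟨T, hT⟩ := l.unop.2
  let R : Subalgebra k A := Algebra.adjoin k (insert a (T : Set A))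
  have hle : ∀ x : A, x ∈ l.unop.1 → x ∈ R := by
    intro x hx
    rw [← hT] at hx
    induction hx using Algebra.adjoin_induction with
    | mem x hx => exact Algebra.subset_adjoin (Set.mem_insert_of_mem a hx)
    | algebraMap z => simp
    | add x y _ _ hx hy => exact R.add_mem hx hy
    | mul x y _ _ hx hy => exact R.mul_mem hx hy
  let ι : l.unop.1 →+* R := (l.unop.1.val.toRingHom).codRestrict R fun x => hle _ x.2
  let h : Spec (CommRingCat.of R) ⟶ (fgSchemes (CommRingCat.of A)).obj l := Spec.map (CommRingCat.ofHom ι)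
  have hcomp : Spec.map (CommRingCat.ofHom R.val.toRingHom) ≫ h = c.π.app l := by
    change _ ≫ Spec.map _ = Spec.map _
    rw [← Spec.map_comp]
    rfl
  refine ⟨R, ⟨insert a T, by rw [Finset.coe_insert]⟩, Algebra.subset_adjoin (Set.mem_insert a _),
    pullback N.hom h, pullback.snd N.hom h,
    pullback.lift N.map (p ≫ Spec.map (CommRingCat.ofHom R.val.toRingHom)) (by
      rw [Category.assoc, hcomp]; exact N.sq.w),
    MorphismProperty.pullback_snd _ _ hN1, MorphismProperty.pullback_snd _ _ hN2,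
    MorphismProperty.pullback_snd _ _ N.lfp, ?_⟩
  refine IsPullback.of_right ?_ (pullback.lift_snd _ _ _) (IsPullback.of_hasPullback N.hom h)
  rw [pullback.lift_fst, hcomp]
  exact N.sq

/-- All fibres over a point smooth, read pointwise. -/
theorem smooth_fiber_iff {X S : Scheme.{u}} (f : X ⟶ S) [LocallyOfFinitePresentation f] (s : S) :
    Smooth (f.fiberToSpecResidueField s) ↔ ∀ x : X, f x = s → Groth.CMMor.IsSmoothFibreAt f x := by
  constructor
  · intro h x hx
    obtain ⟨z, rfl⟩ : x ∈ Set.range (f.fiberι s) := by rw [f.range_fiberι]; exact hx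
    rw [Groth.CMMor.isSmoothFibreAt_iff, Scheme.Hom.smoothLocus_eq_top]
    trivial
  · intro h
    rw [← Scheme.Hom.smoothLocus_eq_top_iff]
    refine top_le_iff.1 fun z _ => (Groth.CMMor.isSmoothFibreAt_iff f s z).1 (h _ ?_)
    exact (f.range_fiberι s).le ⟨z, rfl⟩

/-- An affine curve over an algebraically closed field through a rational point, meeting an open set. -/
theorem exists_curve_hom {k R : Type u} [Field k] [IsAlgClosed k] [CommRing R] [Algebra k R] [Algebra.FiniteType k R]
    (c₀ : R →ₐ[k] k) (G : Set (PrimeSpectrum R)) (hG : IsOpen G) (w : PrimeSpectrum R) (hw : w ∈ G)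
    (hwne : w.asIdeal ≠ RingHom.ker c₀) (hwle : w.asIdeal ≤ RingHom.ker c₀) :
    ∃ (D : Type u) (_ : CommRing D) (_ : IsDomain D) (_ : Algebra k D) (_ : Algebra.Smooth k D)
      (φ : R →ₐ[k] D) (γ : D →ₐ[k] k), γ.comp φ = c₀ ∧ ringKrullDim D = 1 ∧
        PrimeSpectrum.comap φ.toRingHom ⟨⊥, Ideal.isPrime_bot⟩ ∈ G := by
  classical
  let X := Spec (CommRingCat.of R)
  let f : X ⟶ Spec (CommRingCat.of k) := Spec.map (CommRingCat.ofHom (algebraMap k R))
  haveI : LocallyOfFiniteType f := by
    rw [HasRingHomProperty.Spec_iff (P := @LocallyOfFiniteType)]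
    exact RingHom.finiteType_algebraMap.2 inferInstance
  have hsurj : Function.Surjective c₀ := fun t => ⟨algebraMap k R t, c₀.commutes t⟩
  haveI hmax : (RingHom.ker c₀).IsMaximal := RingHom.ker_isMaximal_of_surjective _ hsurj
  let x : PrimeSpectrum R := ⟨RingHom.ker c₀, hmax.isPrime⟩
  have hx : IsClosed ({x} : Set (PrimeSpectrum R)) := (PrimeSpectrum.isClosed_singleton_iff_isMaximal x).2 hmax
  let O : X.Opens := ⟨G ∩ {x}ᶜ, hG.inter hx.isOpen_compl⟩
  obtain ⟨y, hyO, hyx, hdim⟩ := Groth.Pic13Aux.exists_curve_through (X := X) f O (x := x) (w := w) hx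
    (fun h => h.2 rfl) ⟨hw, fun h => hwne (congrArg PrimeSpectrum.asIdeal h)⟩
    ((PrimeSpectrum.le_iff_specializes _ _).1 hwle)
  let Q : Ideal R := PrimeSpectrum.asIdeal (R := R) y
  haveI : Q.IsPrime := PrimeSpectrum.isPrime (R := R) y
  have hQx : Q ≤ RingHom.ker c₀ := (PrimeSpectrum.le_iff_specializes (R := R) y x).2 hyx
  have hdimQ : ringKrullDim (R ⧸ Q) = 1 := by
    have e : Set.range (PrimeSpectrum.comap (Ideal.Quotient.mk Q)) = closure ({y} : Set X) := by
      rw [range_comap_of_surjective _ _ Ideal.Quotient.mk_surjective, Ideal.mk_ker]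
      exact (PrimeSpectrum.closure_singleton (R := R) y).symm
    rw [← PrimeSpectrum.topologicalKrullDim_eq_ringKrullDim, ← hdim, ← e]
    exact IsHomeomorph.topologicalKrullDim_eq _
      ((PrimeSpectrum.isClosedEmbedding_comap_of_surjective _ _ Ideal.Quotient.mk_surjective).isEmbedding.toHomeomorph).isHomeomorph
  let L := FractionRing (R ⧸ Q)
  let D := integralClosure (R ⧸ Q) L
  haveI : Algebra.FiniteType k (R ⧸ Q) := inferInstance
  haveI : IsNoetherianRing (R ⧸ Q) := Algebra.FiniteType.isNoetherianRing k _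
  haveI : Module.Finite (R ⧸ Q) D := Groth.Agent.S10862.result k (R ⧸ Q) L L
  haveI : IsScalarTower k (R ⧸ Q) D := inferInstance
  haveI : Algebra.FiniteType k D := Algebra.FiniteType.trans (inferInstance : Algebra.FiniteType k (R ⧸ Q)) inferInstance
  haveI : IsNoetherianRing D := Algebra.FiniteType.isNoetherianRing k _
  haveI : IsIntegrallyClosed D := integralClosure.isIntegrallyClosedOfFiniteExtension L
  haveI : Ring.KrullDimLE 1 (R ⧸ Q) := Ring.krullDimLE_iff.mpr (le_of_eq hdimQ)
  haveI : Ring.DimensionLEOne D := Groth.EtaleAlgebra.CurveLevel.dimensionLEOne_of_isIntegral (R ⧸ Q) D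
  haveI : IsDedekindDomain D := {}
  haveI : Algebra.Smooth k D := Groth.EtaleAlgebra.CurveLevel.smooth_of_dedekind k D
  have hinj : Function.Injective (algebraMap (R ⧸ Q) D) := fun a b h =>
    IsFractionRing.injective (R ⧸ Q) L (congrArg Subtype.val h)
  let m : Ideal (R ⧸ Q) := (RingHom.ker c₀).map (Ideal.Quotient.mk Q)
  have hmcomap : m.comap (Ideal.Quotient.mk Q) = RingHom.ker c₀ := by
    rw [Ideal.comap_map_of_surjective _ Ideal.Quotient.mk_surjective, ← RingHom.ker_eq_comap_bot, Ideal.mk_ker]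
    exact sup_eq_left.2 hQx
  haveI : m.IsPrime := Ideal.map_isPrime_of_surjective Ideal.Quotient.mk_surjective (by rw [Ideal.mk_ker]; exact hQx)
  obtain ⟨M, -, hMp, hMc⟩ := Ideal.exists_ideal_over_prime_of_isIntegral m (⊥ : Ideal D) (by
    rw [← RingHom.ker_eq_comap_bot, (RingHom.injective_iff_ker_eq_bot _).1 hinj]; exact bot_le)
  haveI : m.IsMaximal := (Ideal.map_eq_top_or_isMaximal_of_surjective _ Ideal.Quotient.mk_surjective hmax).resolve_left (Ideal.IsPrime.ne_top inferInstance)
  haveI hMm : M.IsMaximal := Ideal.isMaximal_of_isIntegral_of_isMaximal_comap (R := R ⧸ Q) M (by rw [hMc]; infer_instance)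
  letI : Field (D ⧸ M) := Ideal.Quotient.field M
  haveI : Module.Finite k (D ⧸ M) := finite_of_finite_type_of_isJacobsonRing k (D ⧸ M)
  haveI : Algebra.IsIntegral k (D ⧸ M) := Algebra.IsIntegral.of_finite k _
  let e : k ≃ₐ[k] D ⧸ M := AlgEquiv.ofBijective (Algebra.ofId k (D ⧸ M)) IsAlgClosed.algebraMap_bijective_of_isIntegral
  let γ : D →ₐ[k] k := e.symm.toAlgHom.comp (Ideal.Quotient.mkₐ k M)
  let φ : R →ₐ[k] D := (IsScalarTower.toAlgHom k (R ⧸ Q) D).comp (Ideal.Quotient.mkₐ k Q)
  refine ⟨D, inferInstance, inferInstance, inferInstance, inferInstance, φ, γ, AlgHom.ext fun r => ?_, ?_, ?_⟩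
  · have hr : r - algebraMap k R (c₀ r) ∈ RingHom.ker c₀ := by
      rw [RingHom.mem_ker, map_sub, c₀.commutes]
      exact sub_self _
    rw [← hmcomap, Ideal.mem_comap, ← hMc, Ideal.mem_comap] at hr
    have h0 : γ (φ (r - algebraMap k R (c₀ r))) = 0 := by
      change e.symm (Ideal.Quotient.mk M (algebraMap (R ⧸ Q) D (Ideal.Quotient.mk Q (r - algebraMap k R (c₀ r))))) = 0
      rw [Ideal.Quotient.eq_zero_iff_mem.2 hr, map_zero]
    rw [map_sub, map_sub, φ.commutes, γ.commutes, sub_eq_zero] at h0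
    exact h0
  · rw [← hdimQ]
    exact Groth.Variety2.Dim.ringKrullDim_eq_of_isIntegral (R ⧸ Q) D hinj
  · have e0 : PrimeSpectrum.comap φ.toRingHom ⟨⊥, Ideal.isPrime_bot⟩ = y := by
      refine PrimeSpectrum.ext (R := R) ?_
      change Ideal.comap φ.toRingHom ⊥ = Q
      ext r
      rw [Ideal.mem_comap, Ideal.mem_bot]
      change algebraMap (R ⧸ Q) D (Ideal.Quotient.mk Q r) = 0 ↔ _
      rw [map_eq_zero_iff _ hinj, Ideal.Quotient.eq_zero_iff_mem]
    rw [e0]
    exact hyO.1

end Groth.Smoothing16186
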